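import Mathlib
import Groth.Agent.H61.Lift.Alg

set_option linter.style.haveILetI false
set_option linter.unusedSectionVars false
set_option autoImplicit false

/-!
# Lifting a flat ideal along a small extension: the case of a regular sequence

Over a local ring `B` with nilpotent maximal ideal, lifts of a (weakly) regular sequence of the
closed fibre of a flat algebra generate an ideal with flat quotient; consequently the condition
`(H2')` needed to split the conormal sequence holds on charts where the ideal of the closed fibre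
is generated by a weakly regular sequence.
-/

namespace Groth.Agent.H61.Lift

open IsLocalRing TensorProduct RingTheory.Sequence

universe u

section Step

variable {B : Type u} [CommRing B] [IsLocalRing B] {R : Type u} [CommRing R] [Algebra B R]

/-- one step: dividing a flat quotient by an element which is regular on the closed fibre. -/
theorem flat_quot_sup_span (hnil : IsNilpotent (maximalIdeal B)) (J : Ideal R)
    [Module.Flat B (R ⧸ J)] (f : R)
    (h : ∀ m, f * m ∈ J ⊔ (maximalIdeal B).map (algebraMap B R) →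
      m ∈ J ⊔ (maximalIdeal B).map (algebraMap B R)) :
    Module.Flat B (R ⧸ (J ⊔ Ideal.span {f})) := by
  have hmap : (maximalIdeal B).map (algebraMap B (R ⧸ J)) =
      ((maximalIdeal B).map (algebraMap B R)).map (Ideal.Quotient.mk J) := by
    rw [Ideal.map_map]
    rfl
  have hmem : ∀ m : R, Ideal.Quotient.mk J m ∈ (maximalIdeal B).map (algebraMap B (R ⧸ J)) ↔
      m ∈ J ⊔ (maximalIdeal B).map (algebraMap B R) := by
    intro m
    rw [hmap, ← Ideal.mem_comap, Ideal.comap_map_of_surjective _ Ideal.Quotient.mk_surjective,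
      ← RingHom.ker_eq_comap_bot, Ideal.mk_ker, sup_comm]
  have h1 : Module.Flat B ((R ⧸ J) ⧸ (Ideal.span {Ideal.Quotient.mk J f})) := by
    refine flat_quot_of_inter hnil _ ?_
    intro x hx hxM
    obtain ⟨s, rfl⟩ := Ideal.mem_span_singleton'.1 hx
    obtain ⟨m, rfl⟩ := Ideal.Quotient.mk_surjective s
    rw [← map_mul, hmem, mul_comm] at hxM
    have h2 := (hmem m).2 (h m hxM)
    exact Ideal.mul_mem_mul h2 (Ideal.subset_span rfl)
  have e : (Ideal.span {f}).map (Ideal.Quotient.mkₐ B J) = Ideal.span {Ideal.Quotient.mk J f} := by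
    rw [Ideal.map_span, Set.image_singleton]
    rfl
  have h3 : Module.Flat B ((R ⧸ J) ⧸ (Ideal.span {f}).map (Ideal.Quotient.mkₐ B J)) := by
    rw [e]
    exact h1
  exact Module.Flat.of_linearEquiv
    (DoubleQuot.quotQuotEquivQuotSupₐ B J (Ideal.span {f})).symm.toLinearEquiv

end Step

section Reg

variable {R₀ : Type u} [CommRing R₀]

/-- the defining property of a weakly regular sequence of a ring, in terms of ideals. -/
lemma mem_of_mul_mem_of_isWeaklyRegular {rs : List R₀} (hreg : IsWeaklyRegular R₀ rs) (i : ℕ)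
    (h : i < rs.length) (m : R₀) (hm : rs[i] * m ∈ Ideal.ofList (rs.take i)) :
    m ∈ Ideal.ofList (rs.take i) := by
  have h1 := hreg.regular_mod_prev i h
  have e : (Ideal.ofList (rs.take i) • (⊤ : Submodule R₀ R₀)) = Ideal.ofList (rs.take i) := by
    rw [smul_eq_mul, Ideal.mul_top]
  have h2 : rs[i] • (Submodule.Quotient.mk m :
      R₀ ⧸ (Ideal.ofList (rs.take i) • (⊤ : Submodule R₀ R₀))) = rs[i] • 0 := by
    rw [smul_zero, ← Submodule.Quotient.mk_smul, Submodule.Quotient.mk_eq_zero, e]
    exact hm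
  have h3 := h1 h2
  rw [Submodule.Quotient.mk_eq_zero, e] at h3
  exact h3

end Reg

section Lift

variable {B : Type u} [CommRing B] [IsLocalRing B] {R : Type u} [CommRing R] [Algebra B R]
  {R₀ : Type u} [CommRing R₀]

/-- **lifts of a weakly regular sequence of the closed fibre cut out a flat quotient.** -/
theorem flat_quot_ofList (hnil : IsNilpotent (maximalIdeal B)) [Module.Flat B R]
    (π : R →+* R₀) (hπ : Function.Surjective π)
    (hπker : RingHom.ker π = (maximalIdeal B).map (algebraMap B R))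
    (fs : List R) (hreg : IsWeaklyRegular R₀ (fs.map π)) :
    Module.Flat B (R ⧸ Ideal.ofList fs) := by
  have key : ∀ j, j ≤ fs.length → Module.Flat B (R ⧸ Ideal.ofList (fs.take j)) := by
    intro j
    induction j with
    | zero =>
      intro _
      rw [List.take_zero, Ideal.ofList_nil]
      exact Module.Flat.of_linearEquiv (AlgEquiv.quotientBot B R).toLinearEquiv
    | succ j ih =>
      intro hj
      have hj' : j < fs.length := hj
      haveI := ih hj'.le
      rw [List.take_succ_eq_append_getElem hj', Ideal.ofList_append, Ideal.ofList_singleton]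
      refine flat_quot_sup_span hnil _ _ ?_
      intro m hm
      have hlen : j < (fs.map π).length := by rw [List.length_map]; exact hj'
      have h1 : π (fs[j] * m) ∈ (Ideal.ofList (fs.take j) ⊔
          (maximalIdeal B).map (algebraMap B R)).map π := Ideal.mem_map_of_mem _ hm
      have h0 : ((maximalIdeal B).map (algebraMap B R)).map π = ⊥ := by
        rw [← hπker]
        exact (Ideal.map_eq_bot_iff_le_ker π).2 le_rfl
      rw [Ideal.map_sup, h0, sup_bot_eq, Ideal.map_ofList, List.map_take, map_mul] at h1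
      have e1 : (fs.map π)[j] = π fs[j] := List.getElem_map π
      rw [← e1] at h1
      have h2 := mem_of_mul_mem_of_isWeaklyRegular hreg j hlen (π m) h1
      rw [← List.map_take, ← Ideal.map_ofList] at h2
      obtain ⟨y, hy, hym⟩ := (Ideal.mem_map_iff_of_surjective π hπ).1 h2
      have h3 : m - y ∈ RingHom.ker π := by
        rw [RingHom.mem_ker, map_sub, hym, sub_self]
      rw [hπker] at h3
      have e2 : m = y + (m - y) := by ring
      rw [e2]
      exact Ideal.add_mem _ (Ideal.mem_sup_left hy) (Ideal.mem_sup_right h3)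
  have := key fs.length le_rfl
  rwa [List.take_length] at this

/-- every list in the image of an ideal lifts. -/
lemma exists_list_lift (π : R →+* R₀) (hπ : Function.Surjective π) (K : Ideal R)
    (rs : List R₀) (h : ∀ r ∈ rs, r ∈ K.map π) :
    ∃ fs : List R, fs.map π = rs ∧ ∀ f ∈ fs, f ∈ K := by
  induction rs with
  | nil => exact ⟨[], rfl, by simp⟩
  | cons r rs ih =>
    obtain ⟨fs, hfs, hK⟩ := ih (fun r' hr' => h r' (List.mem_cons_of_mem _ hr'))
    obtain ⟨f, hf, hfr⟩ := (Ideal.mem_map_iff_of_surjective π hπ).1 (h r List.mem_cons_self)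
    refine ⟨f :: fs, ?_, ?_⟩
    · rw [List.map_cons, hfr, hfs]
    · intro f' hf'
      rcases List.mem_cons.1 hf' with rfl | hf'
      · exact hf
      · exact hK f' hf'

/-- nilpotent Nakayama, in the form used below. -/
lemma le_of_le_sup_mul (N K J : Ideal R) (hN : IsNilpotent N) (h : J ≤ K ⊔ N * J) : J ≤ K := by
  obtain ⟨n, hn⟩ := hN
  have key : ∀ j : ℕ, J ≤ K ⊔ N ^ j * J := by
    intro j
    induction j with
    | zero =>
      rw [pow_zero, Ideal.one_eq_top, Ideal.top_mul]
      exact le_sup_right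
    | succ j ih =>
      refine ih.trans (sup_le le_sup_left ?_)
      refine (Ideal.mul_mono_right h).trans ?_
      rw [Ideal.mul_sup]
      refine sup_le (Ideal.mul_le_right.trans le_sup_left) ?_
      rw [← mul_assoc, ← pow_succ]
      exact le_sup_right
  have := key n
  rwa [hn, Ideal.zero_eq_bot, Ideal.bot_mul, sup_bot_eq] at this

end Lift

namespace LiftDatum

variable {B A R RA R₀ : Type u} [CommRing B] [IsLocalRing B] [CommRing A] [CommRing R]
  [CommRing RA] [CommRing R₀] [Algebra B R] [Algebra A RA] (D : LiftDatum B A R RA R₀)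

lemma comap_J₀ : D.J₀.comap D.π = D.Jt ⊔ (maximalIdeal B).map (algebraMap B R) := by
  rw [J₀, Ideal.comap_map_of_surjective _ D.hπ, ← RingHom.ker_eq_comap_bot, D.hπker]

/-- **(H2')**: if the ideal of the closed fibre is generated by a weakly regular sequence and
`t g ∈ π⁻¹(J₀) J̃`, then `π g ∈ J₀`. -/
theorem π_mem_of_t_mul_mem_reg (hnil : IsNilpotent (maximalIdeal B)) (rs : List R₀)
    (hreg : IsWeaklyRegular R₀ rs) (hJ₀ : D.J₀ = Ideal.ofList rs) (g : R)
    (hg : algebraMap B R D.t * g ∈ D.J₀.comap D.π * D.Jt) : D.π g ∈ D.J₀ := by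
  set 𝔐 : Ideal R := (maximalIdeal B).map (algebraMap B R) with h𝔐
  set T : Ideal R := Ideal.span {algebraMap B R D.t} with hT
  -- lift the sequence
  obtain ⟨fs, hfs, hfsJ⟩ := exists_list_lift D.π D.hπ D.Jt rs (by
    intro r hr
    change r ∈ D.J₀
    rw [hJ₀]
    exact Ideal.subset_span hr)
  set I' : Ideal R := Ideal.ofList fs with hI'
  have hI'le : I' ≤ D.Jt := by
    rw [hI', Ideal.ofList, Ideal.span_le]
    exact fun f hf => hfsJ f hf
  have hI'map : I'.map D.π = D.J₀ := by
    rw [hI', Ideal.map_ofList, hfs, hJ₀]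
  haveI := D.flatR
  haveI hflat : Module.Flat B (R ⧸ I') := by
    refine flat_quot_ofList hnil D.π D.hπ D.hπker fs ?_
    rw [hfs]
    exact hreg
  have hTle : T ≤ D.Jt := by
    rw [hT, Ideal.span_le, Set.singleton_subset_iff]
    exact D.t_mem_Jt
  -- `J̃ = I' + tR`
  have h𝔐nil : IsNilpotent 𝔐 := by
    obtain ⟨n, hn⟩ := hnil
    refine ⟨n, ?_⟩
    rw [h𝔐, ← Ideal.map_pow, hn, Ideal.zero_eq_bot, Ideal.map_bot]
    rfl
  have hJt : D.Jt ≤ I' ⊔ T := by
    refine le_of_le_sup_mul 𝔐 _ _ h𝔐nil ?_
    intro n hn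
    have h1 : D.π n ∈ I'.map D.π := by
      rw [hI'map]
      exact Ideal.mem_map_of_mem _ hn
    obtain ⟨f, hf, hfn⟩ := (Ideal.mem_map_iff_of_surjective D.π D.hπ).1 h1
    have h2 : n - f ∈ 𝔐 := by
      rw [h𝔐, ← D.hπker, RingHom.mem_ker, map_sub, hfn, sub_self]
    obtain ⟨g', hg'⟩ := D.exists_sub_mem (n - f) (Ideal.sub_mem _ hn (hI'le hf)) h2
    have e : n = f + algebraMap B R D.t * g' + (n - f - algebraMap B R D.t * g') := by ring
    rw [e]
    refine Ideal.add_mem _ (Ideal.mem_sup_left (Ideal.add_mem _ (Ideal.mem_sup_left hf)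
      (Ideal.mem_sup_right ?_))) (Ideal.mem_sup_right hg')
    exact Ideal.mul_mem_right _ _ (Ideal.subset_span rfl)
  -- the product lies in `I'`
  have hT𝔐 : 𝔐 * T = ⊥ := by
    rw [eq_bot_iff, Ideal.mul_le]
    intro μ hμ s hs
    obtain ⟨a, rfl⟩ := Ideal.mem_span_singleton'.1 hs
    rw [Ideal.mem_bot, mul_comm a, ← mul_assoc, mul_comm μ, D.tM μ hμ, zero_mul]
  have hTT : T * T = ⊥ := by
    rw [eq_bot_iff, Ideal.mul_le]
    intro s hs s' hs'
    obtain ⟨a, rfl⟩ := Ideal.mem_span_singleton'.1 hs
    obtain ⟨a', rfl⟩ := Ideal.mem_span_singleton'.1 hs'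
    have : algebraMap B R D.t * algebraMap B R D.t = 0 := by
      rw [← map_mul, D.tt, map_zero]
    rw [Ideal.mem_bot]
    calc a * algebraMap B R D.t * (a' * algebraMap B R D.t)
        = a * a' * (algebraMap B R D.t * algebraMap B R D.t) := by ring
      _ = 0 := by rw [this, mul_zero]
  have hprod : D.J₀.comap D.π * D.Jt ≤ I' := by
    rw [D.comap_J₀]
    have h1 : D.Jt ⊔ 𝔐 ≤ I' ⊔ T ⊔ 𝔐 := sup_le_sup_right hJt _
    refine (Ideal.mul_mono h1 hJt).trans ?_
    rw [Ideal.sup_mul, Ideal.sup_mul, Ideal.mul_sup, Ideal.mul_sup, Ideal.mul_sup, hTT, hT𝔐]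
    refine sup_le (sup_le (sup_le Ideal.mul_le_left Ideal.mul_le_left)
      (sup_le Ideal.mul_le_right bot_le)) (sup_le Ideal.mul_le_right bot_le)
  have htg : algebraMap B R D.t * g ∈ I' := hprod hg
  -- flatness of `R/I'`
  have h6 := Groth.Agent.H61.DefAlg.mem_colon_smul_top_of_flat (A := B) (M := R ⧸ I')
    (⊥ : Ideal B) D.t (Ideal.Quotient.mk I' g) (by
      have e0 : D.t • (Ideal.Quotient.mk I' g) = 0 := by
        rw [Algebra.smul_def]
        change Ideal.Quotient.mk I' (algebraMap B R D.t) * Ideal.Quotient.mk I' g = 0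
        rw [← map_mul]
        exact Ideal.Quotient.eq_zero_iff_mem.2 htg
      rw [e0]
      exact zero_mem _)
  have hle : Groth.Agent.H61.DefAlg.colon (⊥ : Ideal B) D.t ≤ maximalIdeal B := by
    intro b hb
    rw [Groth.Agent.H61.DefAlg.mem_colon, Ideal.mem_bot] at hb
    exact D.ann_t b hb
  have h7 := Submodule.smul_mono_left (N := (⊤ : Submodule B (R ⧸ I'))) hle h6
  rw [Ideal.smul_top_eq_map, Submodule.restrictScalars_mem] at h7
  have h8 : (maximalIdeal B).map (algebraMap B (R ⧸ I')) = 𝔐.map (Ideal.Quotient.mk I') := by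
    rw [h𝔐, Ideal.map_map]
    rfl
  rw [h8] at h7
  obtain ⟨μ, hμ, hμg⟩ := (Ideal.mem_map_iff_of_surjective _ Ideal.Quotient.mk_surjective).1 h7
  have h9 : g - μ ∈ I' := by
    rw [← Ideal.Quotient.eq_zero_iff_mem, map_sub, hμg, sub_self]
  have h10 : D.π μ = 0 := by
    rw [← RingHom.mem_ker, D.hπker]
    exact hμ
  have e : D.π g = D.π (g - μ) := by
    rw [map_sub, h10, sub_zero]
  rw [e, ← hI'map]
  exact Ideal.mem_map_of_mem _ h9

end LiftDatum

end Groth.Agent.H61.Lift
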