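import Mathlib
import Groth.Agent.H61.Lift.Sheaf

set_option linter.style.haveILetI false
set_option linter.unusedSectionVars false
set_option autoImplicit false

/-!
# Lifting a flat ideal along a small extension: the splitting on the closed subscheme

A variant of `exists_r`, where the vanishing of `Ext¹_X(I₀, O_X/I₀)` is replaced by an extension
property of the conormal module on the closed subscheme `Z = V(I₀)`, at the price of a stronger
local condition `(H2')`.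
-/

open AlgebraicGeometry CategoryTheory CategoryTheory.Limits Opposite TopologicalSpace TensorProduct

namespace Groth.Agent.H61.Lift

universe u

/-- the extension property that `Ext¹(N₀, Q₀) = 0` provides. -/
def ExtProp {C : Type (u + 1)} [Category.{u} C] [Abelian C] (N₀ Q₀ : C) : Prop :=
  ∀ (O P : C) (a : O ⟶ P) (v : P ⟶ N₀) (w : a ≫ v = 0) (γ : O ⟶ Q₀), Epi v →
    (ShortComplex.mk a v w).Exact → kernel.ι a ≫ γ = 0 → ∃ r₀ : P ⟶ Q₀, a ≫ r₀ = γ

theorem extProp_of_subsingleton {C : Type (u + 1)} [Category.{u} C] [Abelian C] [HasExt.{u} C]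
    (N₀ Q₀ : C) (h : Subsingleton (Abelian.Ext.{u} N₀ Q₀ 1)) : ExtProp N₀ Q₀ := by
  intro O P a v w γ hv hex hk
  haveI := hv
  exact exists_extension_of_ext_one a v w γ hex hk h

theorem ExtProp.of_iso {C : Type (u + 1)} [Category.{u} C] [Abelian C] {N₀ N₀' Q₀ Q₀' : C}
    (h : ExtProp N₀ Q₀) (e : N₀ ≅ N₀') (e' : Q₀ ≅ Q₀') : ExtProp N₀' Q₀' := by
  intro O P a v w γ hv hex hk
  haveI := hv
  have w' : a ≫ (v ≫ e.inv) = 0 := by rw [← Category.assoc, w, zero_comp]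
  have hex' : (ShortComplex.mk a (v ≫ e.inv) w').Exact := by
    let φ : ShortComplex.mk a v w ⟶ ShortComplex.mk a (v ≫ e.inv) w' :=
      { τ₁ := 𝟙 _, τ₂ := 𝟙 _, τ₃ := e.inv,
        comm₁₂ := by
          change 𝟙 _ ≫ a = a ≫ 𝟙 _
          rw [Category.id_comp, Category.comp_id]
        comm₂₃ := by
          change 𝟙 _ ≫ (v ≫ e.inv) = v ≫ e.inv
          rw [Category.id_comp] }
    haveI : Epi φ.τ₁ := inferInstanceAs (Epi (𝟙 _))
    haveI : IsIso φ.τ₂ := inferInstanceAs (IsIso (𝟙 _))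
    haveI : Mono φ.τ₃ := inferInstanceAs (Mono e.inv)
    exact (ShortComplex.exact_iff_of_epi_of_isIso_of_mono φ).1 hex
  obtain ⟨r₀, hr₀⟩ := h _ _ a (v ≫ e.inv) w' (γ ≫ e'.inv) (epi_comp v e.inv) hex' (by
    rw [← Category.assoc, hk, zero_comp])
  refine ⟨r₀ ≫ e'.hom, ?_⟩
  rw [← Category.assoc, hr₀, Category.assoc, e'.inv_hom_id, Category.comp_id]

section PullGen

variable {Z X : Scheme.{u}} (f : Z ⟶ X) (N : X.Modules) [N.IsQuasicoherent]
  {V : X.Opens} (hV : IsAffineOpen V) (hW : IsAffineOpen (f ⁻¹ᵁ V))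
  (hsurj : Function.Surjective (f.app V).hom)

include hV hW hsurj in
/-- every section of `f^*N` over `f⁻¹V` is a pulled back section. -/
lemma exists_pullSect_eq_of_surjective (y : Γ((Scheme.Modules.pullback f).obj N, f ⁻¹ᵁ V)) :
    ∃ m : Γ(N, V), y = OmegaSh.pullSect f N V m := by
  have hsurj' : Function.Surjective (f.appLE V (f ⁻¹ᵁ V) le_rfl) := by
    rw [← Scheme.Hom.app_eq_appLE]
    exact hsurj
  obtain ⟨m, hm⟩ := Groth.Agent.H44.exists_pullSectLE_eq f N hV hW le_rfl hsurj' y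
  refine ⟨m, ?_⟩
  rw [hm, Groth.Agent.H44.pullSectLE_self]

include hV hW hsurj in
/-- a pulled back section vanishes iff the section lies in `(ker f♯) N`. -/
lemma pullSect_eq_zero_iff_of_surjective (s : Γ(N, V)) :
    OmegaSh.pullSect f N V s = 0 ↔
      s ∈ RingHom.ker (f.app V).hom • (⊤ : Submodule Γ(X, V) Γ(N, V)) := by
  letI := (f.appLE V (f ⁻¹ᵁ V) le_rfl).hom.toAlgebra
  have halg : (algebraMap Γ(X, V) Γ(Z, f ⁻¹ᵁ V)) = (f.app V).hom := by
    change (f.appLE V (f ⁻¹ᵁ V) le_rfl).hom = _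
    rw [← Scheme.Hom.app_eq_appLE]
  have hE : Groth.Agent.H44.pullbackSectionsEquiv f N hW hV le_rfl
      (OmegaSh.pullSect f N V s) = (1 : Γ(Z, f ⁻¹ᵁ V)) ⊗ₜ[Γ(X, V)] s := by
    have := Groth.Agent.H44.pullbackSectionsEquiv_pullSectLE f N hW hV le_rfl s
    rwa [Groth.Agent.H44.pullSectLE_self] at this
  have hsurj' : Function.Surjective (algebraMap Γ(X, V) Γ(Z, f ⁻¹ᵁ V)) := by
    rw [halg]
    exact hsurj
  rw [← halg, ← Groth.Agent.Lead.IdealMul.one_tmul_eq_zero_iff Γ(N, V) hsurj' s, ← hE]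
  constructor
  · intro h
    rw [h, map_zero]
  · intro h
    exact (Groth.Agent.H44.pullbackSectionsEquiv f N hW hV le_rfl).injective
      (h.trans (map_zero _).symm)

end PullGen

open ArtFun ArtFun.Art Groth.Agent.H61.AffThick Groth.Agent.H61.DefAlg Groth.Agent.H61.Aut
  Groth.Agent.H61.Hilb IsLocalRing Groth.Agent.H61.Hilb.MulBy

variable {Λ : Type u} {k : Type u} [CommRing Λ] [Field k] [Algebra Λ k]
variable {X : Scheme.{u}} {x : X ⟶ specPt k} {B : Art Λ k} (ξ : DefSch X x B)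

attribute [local instance] algSec

section Flat

variable (It : ξ.total.IdealSheafData) (I₀ : X.IdealSheafData)

/-- a section of the ideal module in `K • ⊤` has its function in `K Ĩ`. -/
lemma idealSect_mem_mul_of_mem_smul_top (c : ξ.total.affineOpens) (K : Ideal Γ(ξ.total, c.1))
    (s : Γ(ClSub.idealMod It, c.1))
    (hs : s ∈ K • (⊤ : Submodule Γ(ξ.total, c.1) Γ(ClSub.idealMod It, c.1))) :
    OmegaSh.idealSect It c.1 s ∈ K * It.ideal c := by
  refine Submodule.smul_induction_on hs ?_ ?_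
  · intro μ hμ n _
    rw [Groth.Agent.H71.IdealInv.idealSect_smul]
    exact Ideal.mul_mem_mul hμ (Groth.Agent.H71.IdealInv.idealSect_mem It c.2 n)
  · intro a b ha hb
    rw [map_add]
    exact Ideal.add_mem _ ha hb

/-- the transpose of `γ` to the closed subscheme. -/
noncomputable def gammaFlat : (Scheme.Modules.pullback I₀.subschemeι).obj
      ((Scheme.Modules.pullback ξ.i).obj (Coh.structureModule ξ.total)) ⟶
    Coh.structureModule I₀.subscheme :=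
  ((Scheme.Modules.pullbackPushforwardAdjunction I₀.subschemeι).homEquiv _ _).symm
    (gammaMap ξ I₀)

lemma gammaFlat_app (U : ξ.total.Opens) (g : Γ(ξ.total, U)) :
    (gammaFlat ξ I₀).app (I₀.subschemeι ⁻¹ᵁ (ξ.i ⁻¹ᵁ U))
        (OmegaSh.pullSect I₀.subschemeι _ (ξ.i ⁻¹ᵁ U)
          (OmegaSh.pullSect ξ.i (Coh.structureModule ξ.total) U
            (OmegaSh.strSect ξ.total U g))) =
      quo I₀ (ξ.i ⁻¹ᵁ U) ((ξ.i.app U).hom g) := by
  unfold gammaFlat
  rw [homEquiv_symm_app, gammaMap_app]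

end Flat

section E3

variable (It : ξ.total.IdealSheafData) (I₀ : X.IdealSheafData) (t : B)
  (τ : Coh.structureModule ξ.total ⟶ ClSub.idealMod It)
  (hτ : τ ≫ ClSub.idealModι It = mulBy (Coh.structureModule ξ.total) (str ξ ⊤ t))
  (P : ξ.total.affineOpens → Prop)
  (hB : Opens.IsBasis {W : I₀.subscheme.Opens |
    ∃ c : ξ.total.affineOpens, P c ∧ W = I₀.subschemeι ⁻¹ᵁ (ξ.i ⁻¹ᵁ c.1)})
  (H2' : ∀ c : ξ.total.affineOpens, P c → ∀ g : Γ(ξ.total, c.1),
    str ξ c.1 t * g ∈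
      (I₀.ideal ⟨ξ.i ⁻¹ᵁ c.1, isAffineOpen_preimage ξ c⟩).comap (ξ.i.app c.1).hom * It.ideal c →
    (ξ.i.app c.1).hom g ∈ I₀.ideal ⟨ξ.i ⁻¹ᵁ c.1, isAffineOpen_preimage ξ c⟩)

/-- lifting elements of `I₀ • i^*Ĩ`. -/
lemma exists_pullSect_eq_of_mem_smul (c : ξ.total.affineOpens)
    (y : Γ((Scheme.Modules.pullback ξ.i).obj (ClSub.idealMod It), ξ.i ⁻¹ᵁ c.1))
    (hy : y ∈ I₀.ideal ⟨ξ.i ⁻¹ᵁ c.1, isAffineOpen_preimage ξ c⟩ •
      (⊤ : Submodule Γ(X, ξ.i ⁻¹ᵁ c.1)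
        Γ((Scheme.Modules.pullback ξ.i).obj (ClSub.idealMod It), ξ.i ⁻¹ᵁ c.1))) :
    ∃ s ∈ (I₀.ideal ⟨ξ.i ⁻¹ᵁ c.1, isAffineOpen_preimage ξ c⟩).comap (ξ.i.app c.1).hom •
        (⊤ : Submodule Γ(ξ.total, c.1) Γ(ClSub.idealMod It, c.1)),
      OmegaSh.pullSect ξ.i (ClSub.idealMod It) c.1 s = y := by
  refine Submodule.smul_induction_on hy ?_ ?_
  · intro f₀ hf₀ n _
    obtain ⟨s', rfl⟩ := exists_pullSect_eq ξ (ClSub.idealMod It) c n
    obtain ⟨f, rfl⟩ := aug_surjective ξ c.2 f₀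
    refine ⟨f • s', Submodule.smul_mem_smul hf₀ Submodule.mem_top, ?_⟩
    rw [OmegaSh.pullSect_smul]
  · rintro a b ⟨sa, hsa, rfl⟩ ⟨sb, hsb, rfl⟩
    exact ⟨sa + sb, Submodule.add_mem _ hsa hsb, map_add _ _ _⟩

include hτ hB H2' in
/-- **(E3')** the kernel of the pulled back `i^*τ` is killed by `γ♭`. -/
lemma kernel_comp_gammaFlat :
    kernel.ι ((Scheme.Modules.pullback I₀.subschemeι).map
      ((Scheme.Modules.pullback ξ.i).map τ)) ≫ gammaFlat ξ I₀ = 0 := by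
  refine hom_ext_basis _ _ _ hB ?_
  rintro _ ⟨c, hc, rfl⟩ z
  rw [comp_app_apply, zero_app_apply]
  have hVaff : IsAffineOpen (ξ.i ⁻¹ᵁ c.1) := isAffineOpen_preimage ξ c
  have hWaff : IsAffineOpen (I₀.subschemeι ⁻¹ᵁ (ξ.i ⁻¹ᵁ c.1)) := hVaff.preimage I₀.subschemeι
  have hsurj : Function.Surjective (I₀.subschemeι.app (ξ.i ⁻¹ᵁ c.1)).hom :=
    I₀.subschemeι_app_surjective ⟨ξ.i ⁻¹ᵁ c.1, hVaff⟩
  have hker : RingHom.ker (I₀.subschemeι.app (ξ.i ⁻¹ᵁ c.1)).hom =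
      I₀.ideal ⟨ξ.i ⁻¹ᵁ c.1, hVaff⟩ := I₀.ker_subschemeι_app ⟨ξ.i ⁻¹ᵁ c.1, hVaff⟩
  haveI : ((Scheme.Modules.pullback ξ.i).obj (Coh.structureModule ξ.total)).IsQuasicoherent :=
    inferInstance
  haveI : ((Scheme.Modules.pullback ξ.i).obj (ClSub.idealMod It)).IsQuasicoherent :=
    inferInstance
  have hy0 : ((Scheme.Modules.pullback I₀.subschemeι).map
      ((Scheme.Modules.pullback ξ.i).map τ)).app (I₀.subschemeι ⁻¹ᵁ (ξ.i ⁻¹ᵁ c.1))
      ((kernel.ι ((Scheme.Modules.pullback I₀.subschemeι).map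
        ((Scheme.Modules.pullback ξ.i).map τ))).app (I₀.subschemeι ⁻¹ᵁ (ξ.i ⁻¹ᵁ c.1)) z) = 0 := by
    have h := congrArg (fun φ => φ.app (I₀.subschemeι ⁻¹ᵁ (ξ.i ⁻¹ᵁ c.1)) z)
      (kernel.condition ((Scheme.Modules.pullback I₀.subschemeι).map
        ((Scheme.Modules.pullback ξ.i).map τ)))
    exact h
  obtain ⟨y₁, hy₁⟩ := exists_pullSect_eq_of_surjective I₀.subschemeι
    ((Scheme.Modules.pullback ξ.i).obj (Coh.structureModule ξ.total)) hVaff hWaff hsurj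
    ((kernel.ι ((Scheme.Modules.pullback I₀.subschemeι).map
        ((Scheme.Modules.pullback ξ.i).map τ))).app (I₀.subschemeι ⁻¹ᵁ (ξ.i ⁻¹ᵁ c.1)) z)
  obtain ⟨g', hg'⟩ := exists_pullSect_eq ξ (Coh.structureModule ξ.total) c y₁
  rw [hy₁] at hy0 ⊢
  rw [pullSect_naturality, pullSect_eq_zero_iff_of_surjective I₀.subschemeι _ hVaff hWaff hsurj,
    hker, hg', pullSect_naturality] at hy0
  obtain ⟨s, hs, hsy⟩ := exists_pullSect_eq_of_mem_smul ξ It I₀ c _ hy0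
  have h1 : τ.app c.1 g' - s ∈ RingHom.ker (ξ.i.app c.1).hom •
      (⊤ : Submodule Γ(ξ.total, c.1) Γ(ClSub.idealMod It, c.1)) := by
    rw [← pullSect_eq_zero_iff ξ (ClSub.idealMod It) c, map_sub, hsy, sub_self]
  have h2 := idealSect_mem_of_mem_smul_top ξ It c _ h1
  have h3 := idealSect_mem_mul_of_mem_smul_top ξ It c _ s hs
  have hg2 : g' = OmegaSh.strSect ξ.total c.1 (OmegaSh.fnSect ξ.total c.1 g') := rfl
  rw [map_sub, hg2, idealSect_tau ξ It t τ hτ] at h2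
  have hle : RingHom.ker (ξ.i.app c.1).hom ≤
      (I₀.ideal ⟨ξ.i ⁻¹ᵁ c.1, hVaff⟩).comap (ξ.i.app c.1).hom := by
    intro a ha
    rw [Ideal.mem_comap, (RingHom.mem_ker).1 ha]
    exact zero_mem _
  have h4 : str ξ c.1 t * OmegaSh.fnSect ξ.total c.1 g' ∈
      (I₀.ideal ⟨ξ.i ⁻¹ᵁ c.1, hVaff⟩).comap (ξ.i.app c.1).hom * It.ideal c := by
    have e : str ξ c.1 t * OmegaSh.fnSect ξ.total c.1 g' =
        (str ξ c.1 t * OmegaSh.fnSect ξ.total c.1 g' - OmegaSh.idealSect It c.1 s) +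
          OmegaSh.idealSect It c.1 s := by ring
    rw [e]
    exact Ideal.add_mem _ (Ideal.mul_mono_left hle h2) h3
  have h5 := H2' c hc _ h4
  rw [hg', hg2, gammaFlat_app]
  exact (quo_eq_zero_iff I₀ hVaff _).2 h5

end E3

section MainReg

variable (It : ξ.total.IdealSheafData) (I₀ : X.IdealSheafData) (t : B)

/-- **the splitting, from an extension property on the closed subscheme.** -/
theorem exists_r_reg
    (hExt : ExtProp ((Scheme.Modules.pullback I₀.subschemeι).obj (ClSub.idealMod I₀))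
      (Coh.structureModule I₀.subscheme))
    (ht : t ∈ maximalIdeal B)
    (hT : ∀ c : ξ.total.affineOpens, str ξ c.1 t ∈ It.ideal c)
    (h₀ : ∀ c : ξ.total.affineOpens,
      I₀.ideal ⟨ξ.i ⁻¹ᵁ c.1, isAffineOpen_preimage ξ c⟩ = (It.ideal c).map (ξ.i.app c.1).hom)
    (H1 : ∀ (c : ξ.total.affineOpens) (n : Γ(ξ.total, c.1)), n ∈ It.ideal c →
      (ξ.i.app c.1).hom n = 0 →
      ∃ g, n - str ξ c.1 t * g ∈ RingHom.ker (ξ.i.app c.1).hom * It.ideal c)
    (P : ξ.total.affineOpens → Prop)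
    (hB : Opens.IsBasis {W : I₀.subscheme.Opens |
      ∃ c : ξ.total.affineOpens, P c ∧ W = I₀.subschemeι ⁻¹ᵁ (ξ.i ⁻¹ᵁ c.1)})
    (H2' : ∀ c : ξ.total.affineOpens, P c → ∀ g : Γ(ξ.total, c.1),
      str ξ c.1 t * g ∈
        (I₀.ideal ⟨ξ.i ⁻¹ᵁ c.1, isAffineOpen_preimage ξ c⟩).comap (ξ.i.app c.1).hom *
          It.ideal c →
      (ξ.i.app c.1).hom g ∈ I₀.ideal ⟨ξ.i ⁻¹ᵁ c.1, isAffineOpen_preimage ξ c⟩) :
    ∃ r : ClSub.idealMod It ⟶ (Scheme.Modules.pushforward ξ.i).obj (ClSub.quotMod I₀),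
      ∀ (U : ξ.total.Opens) (n : Γ(ClSub.idealMod It, U)) (g : Γ(ξ.total, U)),
        OmegaSh.idealSect It U n = str ξ U t * g →
        r.app U n = quo I₀ (ξ.i ⁻¹ᵁ U) ((ξ.i.app U).hom g) := by
  obtain ⟨τ, hτ⟩ := exists_tau ξ It t hT
  obtain ⟨v, hv⟩ := exists_v ξ It I₀ h₀
  haveI : Epi v := epi_v ξ It I₀ v hv h₀
  have hS := exact_tau_v ξ It I₀ t τ hτ v hv ht H1
  have hS' := hS.map_of_epi_of_preservesCokernel (Scheme.Modules.pullback I₀.subschemeι)
    (inferInstanceAs (Epi v)) inferInstance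
  obtain ⟨r₀', hr₀'⟩ := hExt _ _ ((Scheme.Modules.pullback I₀.subschemeι).map
      ((Scheme.Modules.pullback ξ.i).map τ)) ((Scheme.Modules.pullback I₀.subschemeι).map v) _
    (gammaFlat ξ I₀) inferInstance hS' (kernel_comp_gammaFlat ξ It I₀ t τ hτ P hB H2')
  set r₀ := ((Scheme.Modules.pullbackPushforwardAdjunction I₀.subschemeι).homEquiv _ _) r₀'
    with hr₀def
  have hr₀ : (Scheme.Modules.pullback ξ.i).map τ ≫ r₀ = gammaMap ξ I₀ := by
    rw [hr₀def, ← Adjunction.homEquiv_naturality_left, hr₀']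
    exact Equiv.apply_symm_apply _ _
  refine ⟨((Scheme.Modules.pullbackPushforwardAdjunction ξ.i).homEquiv _ _) r₀, ?_⟩
  intro U n g hng
  have e1 : n = τ.app U (OmegaSh.strSect ξ.total U g) := by
    apply Groth.Agent.H71.IdealInv.idealSect_injective It
    rw [hng, idealSect_tau ξ It t τ hτ]
  have e2 : τ ≫ ((Scheme.Modules.pullbackPushforwardAdjunction ξ.i).homEquiv _ _) r₀ =
      canMap ξ I₀ := by
    rw [← Adjunction.homEquiv_naturality_left, hr₀]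
    exact Equiv.apply_symm_apply _ _
  rw [e1, ← comp_app_apply, e2, canMap_app]

end MainReg

end Groth.Agent.H61.Lift
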