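import Mathlib
import Groth.Agent.H61.Lift.Ideal
import Groth.Agent.H61.Lift.RegAlg
import Groth.Agent.H61.Lift.RegSheaf

set_option linter.style.haveILetI false
set_option linter.unusedSectionVars false
set_option autoImplicit false

/-!
# Lifting a flat ideal along a small extension: regular closed immersions
-/

open AlgebraicGeometry CategoryTheory CategoryTheory.Limits Opposite TopologicalSpace TensorProduct

namespace Groth.Agent.H61.Lift

universe u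

open ArtFun ArtFun.Art Groth.Agent.H61.AffThick Groth.Agent.H61.DefAlg Groth.Agent.H61.Aut
  Groth.Agent.H61.Hilb IsLocalRing Groth.Agent.H61.Hilb.MulBy RingTheory.Sequence

section Restrict

/-- a generating weakly regular sequence restricts to smaller affine opens. -/
lemma weaklyRegular_restrict {X : Scheme.{u}} (I₀ : X.IdealSheafData) {U V : X.Opens}
    (hU : IsAffineOpen U) (hV : IsAffineOpen V) (h : V ≤ U) (rs : List Γ(X, U))
    (hreg : IsWeaklyRegular Γ(X, U) rs) (hI : I₀.ideal ⟨U, hU⟩ = Ideal.ofList rs) :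
    ∃ rs' : List Γ(X, V), IsWeaklyRegular Γ(X, V) rs' ∧
      I₀.ideal ⟨V, hV⟩ = Ideal.ofList rs' := by
  have hflat : (X.presheaf.map (homOfLE h).op).hom.Flat := by
    have h1 := Scheme.Hom.flat_appLE (𝟙 X) hU hV (show V ≤ (𝟙 X) ⁻¹ᵁ U from h)
    have e : (𝟙 X : X ⟶ X).appLE U V (show V ≤ (𝟙 X) ⁻¹ᵁ U from h) =
        X.presheaf.map (homOfLE h).op := by
      simp only [Scheme.Hom.appLE]
      exact Category.id_comp _
    rw [e] at h1
    exact h1
  letI := (X.presheaf.map (homOfLE h).op).hom.toAlgebra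
  haveI : Module.Flat Γ(X, U) Γ(X, V) := hflat
  refine ⟨rs.map (algebraMap Γ(X, U) Γ(X, V)), hreg.of_flat, ?_⟩
  rw [← Ideal.map_ofList, ← hI]
  exact (I₀.map_ideal (U := ⟨V, hV⟩) (V := ⟨U, hU⟩) h).symm

end Restrict

variable {Λ : Type u} {k : Type u} [CommRing Λ] [Field k] [Algebra Λ k]
variable {X : Scheme.{u}} {x : X ⟶ specPt k} {B : Art Λ k} (ξ : DefSch X x B)

attribute [local instance] algSec

section Basis

variable (I₀ : X.IdealSheafData)

/-- the charts on which the ideal of the closed fibre is generated by a weakly regular sequence. -/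
def RegChart (c : ξ.total.affineOpens) : Prop :=
  ∃ rs : List Γ(X, ξ.i ⁻¹ᵁ c.1), IsWeaklyRegular Γ(X, ξ.i ⁻¹ᵁ c.1) rs ∧
    I₀.ideal ⟨ξ.i ⁻¹ᵁ c.1, isAffineOpen_preimage ξ c⟩ = Ideal.ofList rs

lemma isBasis_regChart
    (hreg : ∀ z : I₀.subscheme, ∃ (U : X.Opens) (hU : IsAffineOpen U), I₀.subschemeι z ∈ U ∧
      ∃ rs : List Γ(X, U), IsWeaklyRegular Γ(X, U) rs ∧ I₀.ideal ⟨U, hU⟩ = Ideal.ofList rs) :
    Opens.IsBasis {W : I₀.subscheme.Opens |
      ∃ c : ξ.total.affineOpens, RegChart ξ I₀ c ∧ W = I₀.subschemeι ⁻¹ᵁ (ξ.i ⁻¹ᵁ c.1)} := by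
  rw [Opens.isBasis_iff_nbhd]
  intro W z hz
  obtain ⟨V, hV⟩ : ∃ V : X.Opens, I₀.subschemeι ⁻¹ᵁ V = W := by
    have hemb : Topology.IsEmbedding I₀.subschemeι := I₀.subschemeι.isEmbedding
    obtain ⟨s, hs, hsW⟩ := hemb.isInducing.isOpen_iff.1 W.2
    exact ⟨⟨s, hs⟩, Opens.ext hsW⟩
  obtain ⟨U, hU, hzU, rs, hrs, hI⟩ := hreg z
  have hzV : I₀.subschemeι z ∈ V := by
    rw [← hV] at hz
    exact hz
  obtain ⟨_, ⟨c, rfl⟩, hzc, hcVU⟩ := Opens.isBasis_iff_nbhd.mp (isBasis_basisX ξ)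
    (show I₀.subschemeι z ∈ V ⊓ U from ⟨hzV, hzU⟩)
  refine ⟨I₀.subschemeι ⁻¹ᵁ (ξ.i ⁻¹ᵁ c.1), ⟨c, ?_, rfl⟩, hzc, ?_⟩
  · exact weaklyRegular_restrict I₀ hU (isAffineOpen_preimage ξ c) (hcVU.trans inf_le_right)
      rs hrs hI
  · rw [← hV]
    exact Scheme.Hom.preimage_mono _ (hcVU.trans inf_le_left)

end Basis

section MainLift

variable {A : Art Λ k} (p : B ⟶ A) (ξ' : DefSch X x A) (j : ξ'.total ⟶ ξ.total)
  (H : IsPullback j ξ'.f ξ.f (specMap p)) (hji : ξ'.i ≫ j = ξ.i)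
  (I₁ : ξ'.total.IdealSheafData) (I₀ : X.IdealSheafData) (hf₁ : Flat (I₁.subschemeι ≫ ξ'.f))
  (t : B) (hp : Function.Surjective p)
  (hker : RingHom.ker p.toAlgHom.toRingHom = Ideal.span {t})
  (ht : ∀ m ∈ maximalIdeal B, m * t = 0) (hne : t ≠ 0) (htm : t ∈ maximalIdeal B)

include H hji hf₁ hp hker ht hne htm in
/-- the lifted ideal, from a splitting `r`. -/
theorem exists_lift_of_exists_r
    (hnil : IsNilpotent (maximalIdeal B)) (h₁ : I₁.comap ξ'.i = I₀)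
    (hr : ∃ r : ClSub.idealMod (I₁.map j) ⟶
        (Scheme.Modules.pushforward ξ.i).obj (ClSub.quotMod I₀),
      ∀ (U : ξ.total.Opens) (n : Γ(ClSub.idealMod (I₁.map j), U)) (g : Γ(ξ.total, U)),
        OmegaSh.idealSect (I₁.map j) U n = str ξ U t * g →
        r.app U n = quo I₀ (ξ.i ⁻¹ᵁ U) ((ξ.i.app U).hom g)) :
    ∃ I' : ξ.total.IdealSheafData, Flat (I'.subschemeι ≫ ξ.f) ∧ I'.comap j = I₁ := by
  have hcomap : (I₁.map j).comap ξ.i = I₀ := comap_i_map ξ p ξ' j H hji I₁ I₀ hp h₁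
  have hJt := datum_Jt ξ p ξ' j H I₁ hf₁ t hp hker ht hne htm
  have h₀ : ∀ c : ξ.total.affineOpens,
      I₀.ideal ⟨ξ.i ⁻¹ᵁ c.1, isAffineOpen_preimage ξ c⟩ =
        ((I₁.map j).ideal c).map (ξ.i.app c.1).hom := fun c =>
    ideal_eq_map ξ (I₁.map j) I₀ hcomap c
  have hT : ∀ c : ξ.total.affineOpens, str ξ c.1 t ∈ (I₁.map j).ideal c := by
    intro c
    rw [← hJt c]
    exact (datum ξ p ξ' j H I₁ hf₁ t hp hker ht hne htm c).t_mem_Jt
  have hJ₀ : ∀ c : ξ.total.affineOpens,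
      (datum ξ p ξ' j H I₁ hf₁ t hp hker ht hne htm c).J₀ =
        I₀.ideal ⟨ξ.i ⁻¹ᵁ c.1, isAffineOpen_preimage ξ c⟩ := by
    intro c
    rw [h₀ c, ← hJt c]
    rfl
  obtain ⟨r, hr⟩ := hr
  refine ⟨kerSheaf ξ (I₁.map j) I₀ r, ?_, ?_⟩
  · refine flat_of_quot_flat ξ _ (fun c => ?_)
    refine (datum ξ p ξ' j H I₁ hf₁ t hp hker ht hne htm c).flat_of
      (kerIdeal ξ (I₁.map j) I₀ r c) ?_ ?_ hnil ?_
    · rw [hJt c]
      exact kerIdeal_le ξ (I₁.map j) I₀ r c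
    · intro n hn
      rw [hJt c] at hn
      exact exists_sub_mem_kerIdeal ξ (I₁.map j) I₀ t r hr hT c n hn
    · intro g hg
      rw [hJ₀ c]
      exact aug_mem_of_mul_mem_kerIdeal ξ (I₁.map j) I₀ t r hr c g hg
  · refine Scheme.IdealSheafData.ext_of_iSup_eq_top (chart p ξ ξ' j H)
      (iSup_preimage_affineOpens j) ?_
    intro c
    rw [ideal_comap_chart p ξ ξ' j H]
    refine (datum ξ p ξ' j H I₁ hf₁ t hp hker ht hne htm c).map_eq_of
      (kerIdeal ξ (I₁.map j) I₀ r c) ?_ ?_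
    · rw [hJt c]
      exact kerIdeal_le ξ (I₁.map j) I₀ r c
    · intro n hn
      rw [hJt c] at hn
      exact exists_sub_mem_kerIdeal ξ (I₁.map j) I₀ t r hr hT c n hn

include H hji hf₁ hp hker ht hne htm in
/-- **lifting a flat ideal along a small extension, for a regular closed immersion whose conormal
module has the extension property.** -/
theorem exists_lift_reg
    (hExt : ExtProp ((Scheme.Modules.pullback I₀.subschemeι).obj (ClSub.idealMod I₀))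
      (Coh.structureModule I₀.subscheme))
    (hreg : ∀ z : I₀.subscheme, ∃ (U : X.Opens) (hU : IsAffineOpen U), I₀.subschemeι z ∈ U ∧
      ∃ rs : List Γ(X, U), IsWeaklyRegular Γ(X, U) rs ∧ I₀.ideal ⟨U, hU⟩ = Ideal.ofList rs)
    (hnil : IsNilpotent (maximalIdeal B)) (h₁ : I₁.comap ξ'.i = I₀) :
    ∃ I' : ξ.total.IdealSheafData, Flat (I'.subschemeι ≫ ξ.f) ∧ I'.comap j = I₁ := by
  have hcomap : (I₁.map j).comap ξ.i = I₀ := comap_i_map ξ p ξ' j H hji I₁ I₀ hp h₁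
  have hJt := datum_Jt ξ p ξ' j H I₁ hf₁ t hp hker ht hne htm
  have h₀ : ∀ c : ξ.total.affineOpens,
      I₀.ideal ⟨ξ.i ⁻¹ᵁ c.1, isAffineOpen_preimage ξ c⟩ =
        ((I₁.map j).ideal c).map (ξ.i.app c.1).hom := fun c =>
    ideal_eq_map ξ (I₁.map j) I₀ hcomap c
  have hT : ∀ c : ξ.total.affineOpens, str ξ c.1 t ∈ (I₁.map j).ideal c := by
    intro c
    rw [← hJt c]
    exact (datum ξ p ξ' j H I₁ hf₁ t hp hker ht hne htm c).t_mem_Jt
  have hJ₀ : ∀ c : ξ.total.affineOpens,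
      (datum ξ p ξ' j H I₁ hf₁ t hp hker ht hne htm c).J₀ =
        I₀.ideal ⟨ξ.i ⁻¹ᵁ c.1, isAffineOpen_preimage ξ c⟩ := by
    intro c
    rw [h₀ c, ← hJt c]
    rfl
  have hk : ∀ c : ξ.total.affineOpens, RingHom.ker (ξ.i.app c.1).hom =
      (maximalIdeal B).map (algebraMap B Γ(ξ.total, c.1)) := fun c => ker_aug ξ c.2
  refine exists_lift_of_exists_r ξ p ξ' j H hji I₁ I₀ hf₁ t hp hker ht hne htm hnil h₁ ?_
  refine exists_r_reg ξ (I₁.map j) I₀ t hExt htm hT h₀ ?_ (RegChart ξ I₀)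
    (isBasis_regChart ξ I₀ hreg) ?_
  · intro c n hn hπ
    have h := (datum ξ p ξ' j H I₁ hf₁ t hp hker ht hne htm c).exists_sub_mem n
      (by rw [hJt c]; exact hn)
      (by
        rw [← hk c]
        exact hπ)
    rw [hJt c, ← hk c] at h
    exact h
  · rintro c ⟨rs, hrs, hI⟩ g hg
    rw [← hJ₀ c]
    refine (datum ξ p ξ' j H I₁ hf₁ t hp hker ht hne htm c).π_mem_of_t_mul_mem_reg hnil rs hrs
      ((hJ₀ c).trans hI) g ?_
    rw [hJ₀ c, hJt c]
    exact hg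

end MainLift

end Groth.Agent.H61.Lift
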